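import Mathlib.Topology.Algebra.Category.ProfiniteGrp.Completion
import Mathlib.Algebra.Module.CharacterModule
import Mathlib.GroupTheory.Finiteness
import Mathlib.GroupTheory.OrderOfElement

/-! # Profinite completion of abelian groups -/

set_option autoImplicit false
set_option linter.style.haveILetI false

universe u

open CategoryTheory ProfiniteGrp ProfiniteCompletion

namespace ProfComplLib

variable {G H : GrpCat.{u}} (φ : G ⟶ H)

/-- Components of a completed map. -/
theorem map_apply (x : completion G) (K : FiniteIndexNormalSubgroup H) :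
    ((ProfiniteGrp.profiniteCompletion.map φ).hom x).1 K =
      QuotientGroup.map (K.comap φ.hom).toSubgroup K.toSubgroup φ.hom (fun _ h => h) (x.1 (K.comap φ.hom)) := by
  let T := (completion G : Type u)
  let f₁ : completion G → ((diagram H).obj K : Type u) := fun x => ((ProfiniteGrp.profiniteCompletion.map φ).hom x).1 K
  let f₂ : completion G → ((diagram H).obj K : Type u) :=
    fun x => QuotientGroup.map (K.comap φ.hom).toSubgroup K.toSubgroup φ.hom (fun _ h => h) (x.1 (K.comap φ.hom))
  have h1 : Continuous f₁ :=
    ((continuous_apply K).comp continuous_subtype_val).comp (ProfiniteGrp.profiniteCompletion.map φ).hom.continuous_toFun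
  let q : ((diagram G).obj (K.comap φ.hom) : Type u) → ((diagram H).obj K : Type u) :=
    QuotientGroup.map (K.comap φ.hom).toSubgroup K.toSubgroup φ.hom (fun _ h => h)
  have hq : Continuous q := by
    haveI : DiscreteTopology ((diagram G).obj (K.comap φ.hom) : Type u) := ⟨rfl⟩
    exact continuous_of_discreteTopology
  have h2 : Continuous f₂ := hq.comp ((continuous_apply (K.comap φ.hom)).comp continuous_subtype_val)
  refine congrFun ((denseRange G).equalizer h1 h2 (funext fun y => ?_)) x
  have h := lift_eta (φ ≫ eta H)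
  have h' := ConcreteCategory.congr_hom h y
  exact congrArg (fun z : completion H => z.1 K) h'

/-- A point of the completion lies in the closure of a subset met at every finite level. -/
theorem mem_closure_of_forall {x : completion G} {S : Set (completion G)}
    (h : ∀ m : FiniteIndexNormalSubgroup G, ∃ s ∈ S, s.1 m = x.1 m) : x ∈ closure S := by
  rw [mem_closure_iff]
  rintro U ⟨s, hsO, hsv⟩ hxU
  subst hsv
  replace hxU : x.1 ∈ s := hxU
  rcases (isOpen_pi_iff.mp hsO) _ hxU with ⟨J, fJ, hJ1, hJ2⟩
  let M : Subgroup G := iInf fun (j : J) => j.val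
  have hM : M.Normal := Subgroup.normal_iInf_normal fun j => inferInstance
  have hMFinite : M.FiniteIndex := by
    apply Subgroup.finiteIndex_iInf
    infer_instance
  let m : FiniteIndexNormalSubgroup G := { toSubgroup := M }
  obtain ⟨y, hy, hym⟩ := h m
  refine ⟨y, ?_, hy⟩
  show y.1 ∈ s
  refine hJ2 fun a ha => ?_
  let g : m ⟶ a := (iInf_le (fun (j : J) => (j.val.toSubgroup)) ⟨a, ha⟩).hom
  have e : y.1 a = x.1 a := by
    rw [← y.2 g, ← x.2 g, hym]
  exact Set.mem_of_eq_of_mem e (hJ1 a ha).right

/-- Characters separate a finite subgroup of a bounded torsion group by a subgroup of finite index. -/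
theorem exists_finiteIndex_disjoint {E : Type u} [CommGroup E] {n : ℕ} (hn : 0 < n) (hE : ∀ x : E, x ^ n = 1)
    (F : Subgroup E) [Finite F] : ∃ L : Subgroup E, L.FiniteIndex ∧ ∀ x ∈ L, x ∈ F → x = 1 := by
  classical
  have hχ : ∀ f : {f : F // (f : E) ≠ 1}, ∃ χ : CharacterModule (Additive E), χ (Additive.ofMul (f.1 : E)) ≠ 0 := fun f =>
    CharacterModule.exists_character_apply_ne_zero_of_ne_zero (by simpa using f.2)
  choose χ hχ using hχ
  let L₀ : {f : F // (f : E) ≠ 1} → Subgroup E := fun f => (AddMonoidHom.toMultiplicativeRight (χ f)).ker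
  have hfin : ∀ f, (L₀ f).FiniteIndex := by
    intro f
    have : Finite (AddMonoidHom.toMultiplicativeRight (χ f)).range := by
      have hsub : ((AddMonoidHom.toMultiplicativeRight (χ f)).range : Set (Multiplicative (AddCircle (1 : ℚ)))) ⊆
          Multiplicative.toAdd ⁻¹' {y : AddCircle (1 : ℚ) | n • y = 0} := by
        rintro _ ⟨z, rfl⟩
        show n • (χ f) (Additive.ofMul z) = 0
        rw [← map_nsmul, ← ofMul_pow, hE, ofMul_one, map_zero]
      exact (((AddCircle.finite_torsion (1 : ℚ) hn).preimage Multiplicative.toAdd.injective.injOn).subset hsub).to_subtype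
    exact ⟨by
      rw [Subgroup.index_ker]
      exact Nat.card_ne_zero.2 ⟨inferInstance, this⟩⟩
  refine ⟨iInf L₀, Subgroup.finiteIndex_iInf hfin, fun x hx hxF => ?_⟩
  by_contra hx1
  have := Subgroup.mem_iInf.1 hx ⟨⟨x, hxF⟩, hx1⟩
  exact hχ ⟨⟨x, hxF⟩, hx1⟩ this

end ProfComplLib
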